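import Cfsg.Agent.Lib.ThreeTransp.M23Recog.Whole
import Cfsg.Agent.Lib.ThreeTransp.M23Core.Points
import Cfsg.Agent.Lib.ThreeTransp.M23Core.CheckShape
import Cfsg.Agent.Lib.ThreeTransp.U6Recog.OfQuasisimple
import Cfsg.Agent.Lib.He.Sp

/-!
# The hypotheses from a quasisimple centraliser; the presented `Fi₂₂` as a group of type `M(22)`

The centraliser of a transposition of the presented `Fi₂₂` is a non-split double cover of `PSU₆(2)`, so perfect,
and the recognition from such a centraliser gives the structure of type `M(22)`.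
-/

set_option autoImplicit false
set_option maxRecDepth 100000

namespace CfsgLib.M23Recog

open Cfsg
open scoped commutatorElement

/-- A double cover without complement of a perfect group is perfect. -/
theorem perfect_of_nonsplit {H K : Type*} [Group H] [Finite H] [Group K] (hK : commutator K = ⊤)
    (h : Cfsg.IsNonsplitDoubleCover H K) : commutator H = ⊤ := by
  obtain ⟨hz, ⟨e⟩, hns⟩ := h
  let π : H →* K := e.toMonoidHom.comp (QuotientGroup.mk' (Subgroup.center H))
  have hπs : Function.Surjective π := e.surjective.comp (QuotientGroup.mk'_surjective _)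
  have hcover : ∀ x : H, ∃ l ∈ commutator H, l⁻¹ * x ∈ Subgroup.center H := by
    intro x
    have h1 : π x ∈ (commutator H).map π := by
      rw [_root_.commutator_def, Subgroup.map_commutator, Subgroup.map_top_of_surjective π hπs,
        ← _root_.commutator_def, hK]
      exact Subgroup.mem_top _
    obtain ⟨l, hl, hlx⟩ := h1
    exact ⟨l, hl, QuotientGroup.eq.1 (e.injective hlx)⟩
  classical
  by_contra hne
  have htriv : commutator H ⊓ Subgroup.center H = ⊥ := by
    rw [eq_bot_iff]
    intro z hzz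
    rw [Subgroup.mem_bot]
    by_contra hz1
    refine hne (eq_top_iff.2 fun x _ => ?_)
    obtain ⟨l, hl, hlx⟩ := hcover x
    have hsub : ∀ w ∈ Subgroup.center H, w = 1 ∨ w = z := by
      haveI : Fintype ↥(Subgroup.center H) := Fintype.ofFinite _
      intro w hw
      by_contra hcon
      push Not at hcon
      have h3 : ({1, ⟨z, hzz.2⟩, ⟨w, hw⟩} : Finset ↥(Subgroup.center H)).card ≤ 2 :=
        hz ▸ (Finset.card_le_univ _).trans_eq Nat.card_eq_fintype_card.symm
      rw [Finset.card_eq_three.2 ⟨1, ⟨z, hzz.2⟩, ⟨w, hw⟩, fun h => hz1 (congrArg Subtype.val h).symm,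
        fun h => hcon.1 (congrArg Subtype.val h).symm, fun h => hcon.2 (congrArg Subtype.val h).symm, rfl⟩] at h3
      norm_num at h3
    rcases hsub _ hlx with h1 | h1
    · exact inv_mul_eq_one.1 h1 ▸ hl
    · rw [inv_mul_eq_iff_eq_mul.1 h1]; exact mul_mem hl hzz.1
  refine hns (commutator H) (Subgroup.IsComplement'.symm ?_)
  refine Subgroup.isComplement'_of_disjoint_and_mul_eq_univ (disjoint_iff.2 htriv) (Set.eq_univ_of_forall fun x => ?_)
  obtain ⟨l, hl, hlx⟩ := hcover x
  exact Set.mem_mul.2 ⟨l, hl, l⁻¹ * x, hlx, mul_inv_cancel_left l x⟩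

open CfsgLib.Fi22P in
attribute [local irreducible] tab in
/-- A further conjugate of the first generator commuting with it. -/
theorem exists_commuting_conj :
    ∃ g, g * fA * g⁻¹ ∈ Subgroup.centralizer ({fA} : Set Cfsg.Spor.Fi22) ∧ g * fA * g⁻¹ ≠ fA := by
  let r : Cfsg.Spor.Fi22 ≃* Cfsg.Spor.Fi22 := MulEquiv.refl _
  have hall : M23Core.okMem ((0, []) : M23Core.Mem) = true ∧
      M23Core.okMem ((16, [1, 0, 2, 1, 3, 2]) : M23Core.Mem) = true ∧
      M23Core.fixes ((0, []) : M23Core.Mem) 16 = true := by decide +kernel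
  obtain ⟨h0, hmo, hfix⟩ := hall
  have hbase : M23Core.el r (0, []) = fA := rfl
  obtain ⟨x, hx, hxe⟩ := M23Core.el_mem r hmo
  obtain ⟨g, rfl⟩ := isConj_iff.1 hx
  have hxe' : g * fA * g⁻¹ = M23Core.el r (16, [1, 0, 2, 1, 3, 2]) := hxe
  have hc := (M23Core.commute_el r h0 hmo).1 hfix
  rw [hbase, ← hxe'] at hc
  refine ⟨g, Subgroup.mem_centralizer_singleton_iff.2 hc.symm.eq, fun h => ?_⟩
  have h16 := M23Core.el_inj r hmo h0 (by rw [hbase, ← hxe']; exact h)
  exact absurd h16 (by decide)

open CfsgLib.Fi22P in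
/-- The presented `Fi₂₂` with its transpositions is of type `M(22)`, reflection condition aside. -/
theorem fi22_setup : M22.Setup Fi22P.transp := by
  haveI := Fi22P.fi_le.1
  haveI : Fintype (GaloisField 2 2) := Fintype.ofFinite _
  have hF : Fintype.card (GaloisField 2 2) = 4 := by
    rw [Fintype.card_eq_nat_card, GaloisField.card 2 2 two_ne_zero]; norm_num
  have hW := Fi22P.transp_centralizer (show fA ∈ transp from mem_conjugatesOf_self) CfsgLib.He.fieldK hF
  set C := Subgroup.centralizer ({fA} : Set Cfsg.Spor.Fi22) with hC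
  haveI : IsSimpleGroup (Cfsg.PSU 6 (GaloisField 2 2) 2) :=
    CfsgLib.Classical.Unitary.isSimpleGroup_PSU (by rw [hF]; norm_num) (by norm_num) (by norm_num)
  haveI hsimp : IsSimpleGroup (↥C ⧸ Subgroup.center ↥C) := by
    obtain ⟨e⟩ := hW.2.1
    haveI := e.toEquiv.nontrivial
    exact IsSimpleGroup.isSimpleGroup_of_surjective e.symm.toMonoidHom e.symm.surjective
  have hperfK : commutator (Cfsg.PSU 6 (GaloisField 2 2) 2) = ⊤ := by
    refine ((inferInstance : (commutator (Cfsg.PSU 6 (GaloisField 2 2) 2)).Normal).eq_bot_or_eq_top).resolve_left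
      fun h => ?_
    have hcomm : ∀ x y : Cfsg.PSU 6 (GaloisField 2 2) 2, x * y = y * x := fun x y =>
      commutatorElement_eq_one_iff_mul_comm.1 (Subgroup.mem_bot.1 (h ▸ Subgroup.commutator_mem_commutator
        (Subgroup.mem_top x) (Subgroup.mem_top y)))
    obtain ⟨v, hv⟩ := U6Recog.exists_point (F := GaloisField 2 2) (by rw [hF]; norm_num)
    obtain ⟨p, hp⟩ := U6.exists_pt (by rw [hF]; norm_num) hv
    obtain ⟨z, hz, hzu⟩ := U6.exists_iso_off (by rw [hF]; norm_num) hv.1
    obtain ⟨q, hq⟩ := U6.exists_pt (by rw [hF]; norm_num) hz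
    exact hzu ((U6.IsPt.commute_iff (by rw [hF]; norm_num) hq hp).1 (hcomm q p))
  have hperf := perfect_of_nonsplit hperfK hW
  have hZ : (Subgroup.zpowers fA).subgroupOf C = Subgroup.center ↥C := by
    refine Subgroup.eq_of_le_of_card_ge ?_ ?_
    · intro x hx
      obtain ⟨n, hn⟩ := Subgroup.mem_zpowers_iff.1 (Subgroup.mem_subgroupOf.1 hx)
      exact Subgroup.mem_center_iff.2 fun g => Subtype.ext (by
        show (g : Cfsg.Spor.Fi22) * x = x * g
        rw [← hn]
        exact ((show Commute fA (g : Cfsg.Spor.Fi22) from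
          (Subgroup.mem_centralizer_singleton_iff.1 g.2).symm).zpow_left n).eq.symm)
    · rw [hW.1, Nat.card_congr (Subgroup.subgroupOfEquivOfLe (Subgroup.zpowers_le.2
        (show fA ∈ C from Subgroup.mem_centralizer_singleton_iff.2 rfl))).toEquiv, Nat.card_zpowers, fA_order]
  haveI : ((Subgroup.zpowers fA).subgroupOf C).Normal := hZ ▸ inferInstance
  obtain ⟨e⟩ := hW.2.1
  -- a further conjugate commuting with `fA`
  have hnwc := exists_commuting_conj
  obtain ⟨R⟩ := U6Recog.rec_of_quasisimple fA fA_order ⟨⟨hperf⟩, hsimp⟩ (GaloisField 2 2) hF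
    ((QuotientGroup.quotientMulEquivOfEq hZ).trans e) hnwc
  exact R.setup

/-- The hypotheses from those of the statements. -/
theorem rec_of_quasisimple {G : Type*} [Group G] (d : G) (hd : orderOf d = 2)
    (hq : Cfsg.IsQuasisimple ↥(Subgroup.centralizer ({d} : Set G)))
    [((Subgroup.zpowers d).subgroupOf (Subgroup.centralizer ({d} : Set G))).Normal]
    {Q : Type*} [Group Q] {E : Set Q} (S : M22.Setup E)
    (e : ↥(Subgroup.centralizer ({d} : Set G)) ⧸
      (Subgroup.zpowers d).subgroupOf (Subgroup.centralizer ({d} : Set G)) ≃* Q)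
    (hnwc : ∃ g : G, g * d * g⁻¹ ∈ Subgroup.centralizer ({d} : Set G) ∧ g * d * g⁻¹ ≠ d) :
    Nonempty (Rec d E) := by
  refine ⟨⟨S, hd, e.toMonoidHom.comp (QuotientGroup.mk' _), e.surjective.comp (QuotientGroup.mk'_surjective _),
    fun h => ?_, hq.1.commutator_eq_top, hnwc⟩⟩
  show e (QuotientGroup.mk' _ h) = 1 ↔ _
  rw [map_eq_one_iff e e.injective, QuotientGroup.mk'_apply, QuotientGroup.eq_one_iff, Subgroup.mem_subgroupOf]

end CfsgLib.M23Recog
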