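import Cfsg.Agent.Lib.ThreeTransp.M23Recog.Distance
import Cfsg.Agent.Lib.ThreeTransp.M23Model
import Cfsg.Agent.Lib.ThreeTransp.U6Recog.TypeM22

/-!
# The group of the component of `d` satisfies the core conditions of type `M(23)`
-/

set_option autoImplicit false

namespace CfsgLib.M23

open CfsgLib.ThreeTransp CfsgLib.SporMisc CfsgLib.ThreeTransp.Factor

/-- The hypotheses from the core conditions for a primitive class. -/
theorem Setup.of_core {G : Type*} [Group G] [Finite G] {D : Set G} (h : TTC D)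
    (hp : Cfsg.IsPrimitiveUnderConj D) (ht : TypeCore G D) : Setup D := by
  have hD : Cfsg.IsThreeTranspositionGroup D :=
    ⟨⟨fun x hx => orderOf_eq_prime (by rw [pow_two]; exact h.tt.sq x hx) (h.tt.ne_one x hx), fun x hx y hy => by
      rcases h.tt.cond x hx y hy with hc | hc
      · exact Or.inl (by rw [hc.mul_pow, pow_two, pow_two, h.tt.sq x hx, h.tt.sq y hy, one_mul])
      · exact Or.inr (pow_three_eq_one (h.tt.sq x hx) (h.tt.sq y hy) hc)⟩, h.tt.conj, h.gen⟩
  obtain ⟨hZ, d, hd, c, hc, hdc, hM, hns⟩ := ht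
  obtain ⟨d', hd', -⟩ := hM.2
  obtain ⟨h1, h2⟩ := hyp_of_group hD hp hZ (exists_comm_pair hd hd')
  exact ⟨h.tt, h.gen, hp, ⟨hZ, d, hd, c, hc, hdc, hM, hns⟩, h1, h2⟩

end CfsgLib.M23

namespace CfsgLib.M23Recog

open CfsgLib.ThreeTransp (link comp IsTT)
open CfsgLib.ThreeTransp.Factor (linkSub)

variable {G : Type*} [Group G] {Q : Type*} [Group Q] {E : Set Q}

/-- The component of `d`. -/
def Comp (d : G) : Set G := {y | y ∈ conjugatesOf d ∧ Near d d y}

/-- Its group. -/
def compGroup (d : G) : Subgroup G := Subgroup.closure (Comp d)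

/-- Its class, in its group. -/
def compSet (d : G) : Set ↥(compGroup d) := {x | (x : G) ∈ Comp d}

theorem near_conj {d a b : G} (g : G) (h : Near d a b) : Near d (g * a * g⁻¹) (g * b * g⁻¹) := by
  rcases h with h | ⟨e, he, h1, h2⟩
  · exact Or.inl ((Commute.conj_iff g).2 h)
  · exact Or.inr ⟨g * e * g⁻¹, he.trans (isConj_iff.2 ⟨g, rfl⟩), (Commute.conj_iff g).2 h1,
      (Commute.conj_iff g).2 h2⟩

theorem self_mem_comp (d : G) : d ∈ Comp d := ⟨IsConj.refl d, Or.inl (Commute.refl d)⟩

theorem comp_le {d x : G} (h : x ∈ Comp d) : x ∈ compGroup d := Subgroup.subset_closure h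

theorem link_subset_comp {d : G} : link (conjugatesOf d) d ⊆ Comp d := fun _ hx => ⟨hx.1, Or.inl hx.2.2⟩

theorem compSet_gen (d : G) : Subgroup.closure (compSet d) = ⊤ := by
  refine eq_top_iff.2 fun x _ => ?_
  obtain ⟨x, hx⟩ := x
  have hle : compGroup d ≤ (Subgroup.closure (compSet d)).map (compGroup d).subtype := by
    refine (Subgroup.closure_le _).2 fun y hy => ?_
    exact ⟨⟨y, comp_le hy⟩, Subgroup.subset_closure hy, rfl⟩
  obtain ⟨y, hy, he⟩ := hle hx
  rwa [show (⟨x, hx⟩ : ↥(compGroup d)) = y from Subtype.ext he.symm]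

theorem conj_braid {a b : G} (ha : a * a = 1) (hb : b * b = 1) (h : a * b * a⁻¹ = b * a * b⁻¹) :
    a * b * a = b * a * b ∧ a * b * a * (a * b)⁻¹ = b := by
  have ha' : a⁻¹ = a := inv_eq_of_mul_eq_one_right ha
  have hb' : b⁻¹ = b := inv_eq_of_mul_eq_one_right hb
  rw [ha', hb'] at h
  refine ⟨h, ?_⟩
  rw [mul_inv_rev, ha', hb', h]
  calc b * a * b * (b * a) = b * a * (b * b) * a := by group
    _ = b := by rw [hb, mul_one, mul_assoc, ha, mul_one]

namespace Rec

variable {d : G} [Finite G] (R : Rec d E)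
include R

theorem exists_link_member : ∃ e, e ∈ link (conjugatesOf d) d := by
  obtain ⟨q, hq, -⟩ := R.S.exists_noncommuting
  obtain ⟨x, hx, -⟩ := R.exists_link hq
  exact ⟨x, hx⟩

theorem comp_near {x y : G} (hx : x ∈ Comp d) (hy : y ∈ Comp d) : Near d x y :=
  R.near_trans hx.1 (IsConj.refl d) hy.1 hx.2.symm' hy.2

theorem comp_mem_of_commute {x y : G} (hx : x ∈ Comp d) (hy : y ∈ conjugatesOf d) (h : Commute x y) : y ∈ Comp d :=
  ⟨hy, R.near_trans (IsConj.refl d) hx.1 hy hx.2 (Or.inl h)⟩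

theorem centralizer_le : Subgroup.centralizer ({d} : Set G) ≤ compGroup d :=
  R.closure_link.symm.le.trans (Subgroup.closure_mono link_subset_comp)

theorem comp_conj_mem {g x : G} (hg : g * d * g⁻¹ ∈ Comp d) (hx : x ∈ Comp d) : g * x * g⁻¹ ∈ Comp d :=
  ⟨hx.1.trans (isConj_iff.2 ⟨g, rfl⟩), R.near_trans (IsConj.refl d) hg.1 (hx.1.trans (isConj_iff.2 ⟨g, rfl⟩))
    hg.2 (near_conj g hx.2)⟩

theorem conj_comp {x y : G} (hx : x ∈ Comp d) (hy : y ∈ Comp d) : x * y * x⁻¹ ∈ Comp d := by
  have hD : x * y * x⁻¹ ∈ conjugatesOf d := hy.1.trans (isConj_iff.2 ⟨x, rfl⟩)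
  refine ⟨hD, R.near_trans (IsConj.refl d) hx.1 hD hx.2 ?_⟩
  have := near_conj x (R.comp_near hx hy)
  rwa [mul_inv_cancel_right] at this

theorem group_conj {g : G} (hg : g ∈ compGroup d) {x : G} (hx : x ∈ Comp d) : g * x * g⁻¹ ∈ Comp d := by
  have : ∀ x ∈ Comp d, g * x * g⁻¹ ∈ Comp d ∧ g⁻¹ * x * g ∈ Comp d := by
    induction hg using Subgroup.closure_induction with
    | mem y hy =>
      intro x hx
      have hi : y⁻¹ = y := inv_eq_of_mul_eq_one_right (R.sq_of_mem hy.1)
      have h := R.conj_comp hy hx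
      rw [hi] at h ⊢
      exact ⟨h, h⟩
    | one => intro x hx; simpa using hx
    | mul u v _ _ i1 i2 =>
      intro x hx
      exact ⟨by simpa [mul_assoc] using (i1 _ (i2 x hx).1).1, by simpa [mul_assoc] using (i2 _ (i1 x hx).2).2⟩
    | inv u _ i1 => intro x hx; exact ⟨by simpa using (i1 x hx).2, by simpa using (i1 x hx).1⟩
  exact (this x hx).1

theorem comp_cls {x : G} (hx : x ∈ Comp d) : ∃ m ∈ compGroup d, m * d * m⁻¹ = x := by
  haveI := R.finite_quot
  by_cases hdx : Commute d x
  · by_cases hxd : x = d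
    · exact ⟨1, one_mem _, by rw [hxd]; group⟩
    have hxl : x ∈ link (conjugatesOf d) d := ⟨hx.1, hxd, hdx⟩
    obtain ⟨F, _, _, hF, hM⟩ := R.S.exists_models
    obtain ⟨A₀⟩ := hM _ (R.img_mem hxl)
    obtain ⟨q, hq⟩ := A₀.link_nonempty hF
    obtain ⟨e, he, rfl⟩ := R.exists_link hq.1
    have hex : e ∈ link (conjugatesOf d) x := (R.img_link hxl he).1 hq
    obtain ⟨A⟩ := R.at' he.1
    have hD := class_eq he.1
    have hde : d ∈ link (conjugatesOf e) e := ⟨hD ▸ IsConj.refl d, he.2.1.symm, he.2.2.symm⟩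
    have hxe : x ∈ link (conjugatesOf e) e := ⟨hD ▸ hx.1, hex.2.1.symm, hex.2.2.symm⟩
    obtain ⟨g, hg⟩ := A.S.cls (A.img_mem hde) (A.img_mem hxe)
    obtain ⟨k, rfl⟩ := A.surj g
    have hkl : (k : G) * d * (k : G)⁻¹ ∈ link (conjugatesOf e) e := by
      have hke : Commute e (k : G) := (Subgroup.mem_centralizer_singleton_iff.1 k.2).symm
      refine ⟨hde.1.trans (isConj_iff.2 ⟨k, rfl⟩), fun h => hde.2.1 ?_,
        (hke.mul_right hde.2.2).mul_right hke.inv_right⟩
      calc d = (k : G)⁻¹ * ((k : G) * d * (k : G)⁻¹) * k := by group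
        _ = (k : G)⁻¹ * (e * k) := by rw [h, mul_assoc]
        _ = e := by rw [hke.eq]; group
    have hkx : (k : G) * d * (k : G)⁻¹ = x := A.link_ext hkl hxe (by
      rw [← hg, img, img, ← map_inv, ← map_mul, ← map_mul]
      rfl)
    have hle : Subgroup.centralizer ({e} : Set G) ≤ compGroup d := by
      rw [← A.closure_link]
      exact Subgroup.closure_mono fun y hy => R.comp_mem_of_commute (link_subset_comp he) (hD ▸ hy.1) hy.2.2
    exact ⟨k, hle k.2, hkx⟩
  · exact ⟨d * x, mul_mem (comp_le (self_mem_comp d)) (comp_le hx),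
      (conj_braid R.sq (R.sq_of_mem hx.1) (R.near_braid (IsConj.refl d) hx.1 hx.2 hdx)).2⟩

/-- An element moving `d` within the component is in the group of the component. -/
theorem mem_compGroup {g : G} (hg : g * d * g⁻¹ ∈ Comp d) : g ∈ compGroup d := by
  obtain ⟨m, hm, he⟩ := R.comp_cls hg
  have : m⁻¹ * g ∈ Subgroup.centralizer ({d} : Set G) := Subgroup.mem_centralizer_singleton_iff.2 (by
    calc m⁻¹ * g * d = m⁻¹ * (g * d * g⁻¹) * g := by group
      _ = d * (m⁻¹ * g) := by rw [← he]; group)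
  simpa using mul_mem hm (R.centralizer_le this)

theorem compSet_tt : IsTT (compSet d) := by
  refine ⟨fun x hx => Subtype.ext (R.sq_of_mem hx.1), fun x hx h => R.ne_one_of_mem hx.1 (congrArg Subtype.val h),
    fun x hx y hy => ?_, fun g x hx => R.group_conj g.2 hx⟩
  by_cases h : Commute (x : G) y
  · exact Or.inl (Subtype.ext h)
  · exact Or.inr (Subtype.ext
      (conj_braid (R.sq_of_mem hx.1) (R.sq_of_mem hy.1) (R.near_braid hx.1 hy.1 (R.comp_near hx hy) h)).1)

theorem center_pi {c : ↥(Subgroup.centralizer ({d} : Set G))}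
    (hc : ∀ x ∈ link (conjugatesOf d) d, Commute (c : G) x) : R.π c = 1 := by
  have hz : R.π c ∈ Subgroup.center Q := by
    refine Subgroup.mem_center_iff.2 fun q => ?_
    obtain ⟨h, rfl⟩ := R.surj q
    rw [← map_mul, ← map_mul]
    congr 1
    have hh : (h : G) ∈ Subgroup.closure (link (conjugatesOf d) d) := R.closure_link.symm ▸ h.2
    have : ∀ k : G, k ∈ Subgroup.closure (link (conjugatesOf d) d) → Commute (c : G) k := by
      intro k hk
      induction hk using Subgroup.closure_induction with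
      | mem x hx => exact hc x hx
      | one => exact Commute.one_right _
      | mul u v _ _ h1 h2 => exact h1.mul_right h2
      | inv u _ h1 => exact h1.inv_right
    exact Subtype.ext (this h hh).symm.eq
  rwa [R.S.type.1, Subgroup.mem_bot] at hz

/-- A member of the component not commuting with `d` whose common neighbours with `d` generate an insoluble
group. -/
theorem exists_far : ∃ c ∈ Comp d, ¬ Commute d c ∧ ∀ H : Subgroup G,
    (∀ x, x ∈ link (conjugatesOf d) d → x ∈ link (conjugatesOf d) c → x ∈ H) → ¬ Group.IsSolvable H := by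
  haveI := R.finite_quot
  obtain ⟨e, he⟩ := R.exists_link_member
  obtain ⟨A⟩ := R.at' he.1
  have hD := class_eq he.1
  have hde : d ∈ link (conjugatesOf e) e := ⟨hD ▸ IsConj.refl d, he.2.1.symm, he.2.2.symm⟩
  obtain ⟨-, p, hp, q, hq, hpq, -, c₃, hc₃, hL⟩ := A.S.isOfType
  obtain ⟨g, hg⟩ := A.S.cls hp (A.img_mem hde)
  obtain ⟨c, hc, hcq⟩ := A.exists_link (A.S.tt.conj g q hq)
  have hcc : c ∈ conjugatesOf d := hD ▸ hc.1
  refine ⟨c, R.comp_mem_of_commute (link_subset_comp he) hcc hc.2.2, fun h => hpq ?_, fun H hH hs => ?_⟩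
  · refine (Commute.conj_iff g).1 ?_
    rw [hg, ← hcq]
    exact (A.commute_iff hde hc).1 h
  · refine ThreeTransp.Factor.not_solvable_of_proj (by norm_num) hc₃ hL (ThreeTransp.Factor.isSolvable_quot ?_)
    let K : Subgroup ↥(Subgroup.centralizer ({e} : Set G)) := H.subgroupOf _
    haveI : Group.IsSolvable H := hs
    haveI : Group.IsSolvable K := by
      refine @Group.isSolvable_of_isSolvable_injective _ _ _ _
        ({ toFun := fun x => ⟨((x : ↥(Subgroup.centralizer ({e} : Set G))) : G), x.2⟩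
           map_one' := rfl
           map_mul' := fun _ _ => rfl } : ↥K →* ↥H) (fun x y hxy => ?_) _
      exact Subtype.ext (Subtype.ext (congrArg (fun z : ↥H => (z : G)) hxy))
    let L := Subgroup.closure (link E p ∩ link E q)
    have hle : L.map (MulAut.conj g).toMonoidHom ≤ K.map A.π := by
      rw [MonoidHom.map_closure, Subgroup.closure_le]
      rintro _ ⟨z, ⟨hzp, hzq⟩, rfl⟩
      have e1 : g * z * g⁻¹ ∈ link E (A.img hde) := hg ▸ ThreeTransp.link_conj A.S.tt g hzp
      have e2 : g * z * g⁻¹ ∈ link E (A.img hc) := hcq ▸ ThreeTransp.link_conj A.S.tt g hzq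
      obtain ⟨x, hx, hxz⟩ := A.exists_link e1.1
      rw [← hxz] at e1 e2
      have h1 := (A.img_link hde hx).1 e1
      have h2 := (A.img_link hc hx).1 e2
      rw [hD] at h1 h2
      exact ⟨A.toC hx, Subgroup.mem_subgroupOf.2 (hH x h1 h2), hxz⟩
    haveI : Group.IsSolvable ↥(K.map A.π) :=
      Group.isSolvable_of_surjective (f := A.π.subgroupMap K) (A.π.subgroupMap_surjective K)
    exact @Group.isSolvable_of_isSolvable_injective _ _ _ _
      ((Subgroup.inclusion hle).comp
        (Subgroup.equivMapOfInjective L (MulAut.conj g).toMonoidHom (MulAut.conj g).injective).toMonoidHom)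
      ((Subgroup.inclusion_injective hle).comp (MulEquiv.injective _)) this

/-- The group of the component satisfies the core conditions of type `M(23)` with the component as its class. -/
theorem compSetup : M23.Setup (compSet d) := by
  haveI := R.finite_quot
  have hcls : ∀ x ∈ compSet d, ∀ y ∈ compSet d, ∃ g : ↥(compGroup d), g * x * g⁻¹ = y := by
    intro x hx y hy
    obtain ⟨m, hm, he⟩ := R.comp_cls hx
    obtain ⟨n, hn, he'⟩ := R.comp_cls hy
    refine ⟨⟨n * m⁻¹, mul_mem hn (inv_mem hm)⟩, Subtype.ext ?_⟩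
    show n * m⁻¹ * (x : G) * (n * m⁻¹)⁻¹ = y
    rw [← he, ← he']
    group
  set d' : ↥(compGroup d) := ⟨d, comp_le (self_mem_comp d)⟩ with hd'
  have hd'm : d' ∈ compSet d := self_mem_comp d
  obtain ⟨c, hc, hdc, hns⟩ := R.exists_far
  set c' : ↥(compGroup d) := ⟨c, comp_le hc⟩ with hcdef
  have hc' : c' ∈ compSet d := hc
  have hdc' : ¬ Commute d' c' := fun h => hdc (congrArg Subtype.val h.eq)
  have httc : SporMisc.TTC (compSet d) :=
    ⟨R.compSet_tt, compSet_gen d, hcls, d', hd'm, _, hc', fun e => hdc' (e ▸ Commute.refl _)⟩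
  -- the link
  have hlink : ∀ x : ↥(compGroup d), x ∈ link (compSet d) d' ↔ (x : G) ∈ link (conjugatesOf d) d := fun x =>
    ⟨fun h => ⟨h.1.1, fun e => h.2.1 (Subtype.ext e), congrArg Subtype.val h.2.2.eq⟩,
      fun h => ⟨link_subset_comp h, fun e => h.2.1 (congrArg Subtype.val e), Subtype.ext h.2.2.eq⟩⟩
  have himg : (Subgroup.closure (link (compSet d) d')).map (compGroup d).subtype =
      Subgroup.centralizer ({d} : Set G) := by
    rw [MonoidHom.map_closure, ← R.closure_link]
    congr 1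
    ext x
    constructor
    · rintro ⟨y, hy, rfl⟩; exact (hlink y).1 hy
    · intro hx; exact ⟨⟨x, comp_le (link_subset_comp hx)⟩, (hlink _).2 hx, rfl⟩
  let e₁ : ↥(Subgroup.closure (link (compSet d) d')) ≃* ↥(Subgroup.centralizer ({d} : Set G)) :=
    (Subgroup.equivMapOfInjective _ _ (compGroup d).subtype_injective).trans (MulEquiv.subgroupCongr himg)
  let ψ : ↥(Subgroup.closure (link (compSet d) d')) →* Q := R.π.comp e₁.toMonoidHom
  have hψ : ψ.ker = Subgroup.center ↥(Subgroup.closure (link (compSet d) d')) := by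
    ext x
    rw [MonoidHom.mem_ker, Subgroup.mem_center_iff]
    constructor
    · intro hx y
      apply e₁.injective
      rw [map_mul, map_mul]
      have hx' : R.π (e₁ x) = 1 := hx
      rcases R.ker_cases hx' with h | h <;> rw [h]
      · rw [mul_one, one_mul]
      · exact (R.zC_comm _).eq.symm
    · intro hx
      refine R.center_pi fun y hy => ?_
      have h1 := congrArg e₁ (hx (e₁.symm ⟨y, Subgroup.mem_centralizer_singleton_iff.2 hy.2.2.symm.eq⟩))
      rw [map_mul, map_mul, MulEquiv.apply_symm_apply] at h1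
      exact (congrArg Subtype.val h1).symm
  let e₂ := (QuotientGroup.quotientMulEquivOfEq hψ.symm).trans
    (QuotientGroup.quotientKerEquivOfSurjective ψ (R.surj.comp e₁.surjective))
  have hcenter : Subgroup.center ↥(compGroup d) = ⊥ := by
    refine eq_bot_iff.2 fun x hx => ?_
    rw [Subgroup.mem_bot]
    have hxc : ∀ y : ↥(compGroup d), Commute (x : G) y := fun y =>
      (congrArg Subtype.val (Subgroup.mem_center_iff.1 hx y)).symm
    have hxC : (x : G) ∈ Subgroup.centralizer ({d} : Set G) := Subgroup.mem_centralizer_singleton_iff.2 (hxc d').eq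
    have hπ := R.center_pi (c := ⟨x, hxC⟩) fun y hy => hxc ⟨y, comp_le (link_subset_comp hy)⟩
    rcases R.ker_cases hπ with h | h
    · exact Subtype.ext (Subtype.mk_eq_mk.1 h)
    · exfalso
      have hxd : (x : G) = d := congrArg Subtype.val h
      exact hdc (hxd ▸ hxc c')
  have hE : e₂.symm '' E = M23.E (compSet d) d' := by
    ext z
    constructor
    · rintro ⟨q, hq, rfl⟩
      obtain ⟨x, hx, rfl⟩ := R.exists_link hq
      refine ⟨⟨⟨x, comp_le (link_subset_comp hx)⟩, Subgroup.subset_closure ((hlink _).2 hx)⟩, (hlink _).2 hx, ?_⟩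
      rw [eq_comm, MulEquiv.symm_apply_eq]
      rfl
    · rintro ⟨x, hx, rfl⟩
      refine ⟨ψ x, ?_, ?_⟩
      · exact R.img_mem ((hlink _).1 (show (x : ↥(compGroup d)) ∈ link (compSet d) d' from hx))
      · rw [MulEquiv.symm_apply_eq]
        rfl
  have hns' : ¬ Group.IsSolvable
      ↥(Subgroup.closure (link (compSet d) d' ∩ link (compSet d) c')) := by
    intro hs
    refine hns ((Subgroup.closure (link (compSet d) d' ∩ link (compSet d) c')).map (compGroup d).subtype)
      (fun x hx hxc => ?_) ?_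
    · refine ⟨⟨x, comp_le (link_subset_comp hx)⟩, Subgroup.subset_closure ⟨(hlink _).2 hx, ?_⟩, rfl⟩
      exact ⟨link_subset_comp hx, fun e => hxc.2.1 (congrArg Subtype.val e), Subtype.ext hxc.2.2.eq⟩
    · haveI := hs
      exact Group.isSolvable_of_surjective (f := (compGroup d).subtype.subgroupMap _)
        ((compGroup d).subtype.subgroupMap_surjective _)
  refine M23.Setup.of_core httc ?_
    ⟨hcenter, d', hd'm, c', hc', hdc', M23.isOfTypeM22_equiv e₂.symm hE R.S.isOfType, hns'⟩
  obtain ⟨F, _, _, hF, hM⟩ := R.S.exists_models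
  haveI : IsSimpleGroup Q := M22.isSimple R.S hF hM
  haveI : Nontrivial (↥(linkSub (compSet d) d') ⧸ Subgroup.center ↥(linkSub (compSet d) d')) :=
    e₂.toEquiv.nontrivial
  refine ThreeTransp.Factor.primitive_of_simple_link httc hd'm
    (IsSimpleGroup.isSimpleGroup_of_surjective e₂.symm.toMonoidHom e₂.symm.surjective) ?_
  intro a ha b hb
  refine (ThreeTransp.comp_eq_of_mem (fun _ _ h => h.symm) ?_).symm
  rcases R.comp_near ha hb with h | ⟨e, he, h1, h2⟩
  · exact Relation.ReflTransGen.single ⟨ha, hb, Subtype.ext h⟩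
  · have hec : e ∈ Comp d := R.comp_mem_of_commute ha he h1
    exact (Relation.ReflTransGen.single (r := fun u v => u ∈ compSet d ∧ v ∈ compSet d ∧ Commute u v)
      (a := a) (b := ⟨e, comp_le hec⟩) ⟨ha, hec, Subtype.ext h1⟩).tail ⟨hec, hb, Subtype.ext h2⟩

end Rec

end CfsgLib.M23Recog
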