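import Cfsg.Agent.Lib.ThreeTransp.M23Recog.Local
import Cfsg.Agent.Lib.ThreeTransp.M22SecSet
import Cfsg.Agent.Lib.FischerPair.M22

/-!
# Recognition of `Fi₂₃`: a component of the commuting graph of the conjugates has diameter two

For `y` at distance two from `d` through `e` and `a` next to `d` the common neighbours of `d`, `y` and of `e`,
`a` are two sets in the link of the pair `d`, `e` with members that do not commute, so with a common member.
-/

set_option autoImplicit false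

namespace CfsgLib.M22

open CfsgLib.ThreeTransp

variable {G H : Type*} [Group G] [Group H] {Λ X : Set G} {f : G → H}

/-- Sets of the second kind go over under an isomorphism of sets of members. -/
theorem SecSet.push (hX : SecSet Λ X) (hinj : Set.InjOn f Λ)
    (hc : ∀ x ∈ Λ, ∀ y ∈ Λ, (Commute (f x) (f y) ↔ Commute x y))
    (hconj : ∀ x ∈ Λ, ∀ y ∈ Λ, f (x * y * x⁻¹) = f x * f y * (f x)⁻¹) : SecSet (f '' Λ) (f '' X) := by
  refine ⟨Set.image_mono hX.sub, ?_, ?_⟩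
  · rintro _ ⟨x, hx, rfl⟩ _ ⟨y, hy, rfl⟩
    exact ⟨_, hX.conj x hx y hy, hconj x (hX.sub hx) y (hX.sub hy)⟩
  · rintro _ ⟨x, hx, rfl⟩ _ ⟨g, hg, rfl⟩ hcom hne
    obtain ⟨m, hm, hmne, hmx, hall⟩ :=
      hX.second x hx g hg ((hc x (hX.sub hx) g hg).1 hcom) fun e => hne (by rw [e])
    refine ⟨f m, ⟨m, hm, rfl⟩, fun e => hmne (hinj (hX.sub hm) (hX.sub hx) e),
      (hc m (hX.sub hm) x (hX.sub hx)).2 hmx, ?_⟩
    rintro _ ⟨h, hh, rfl⟩ h1 h2
    exact (hc h hh m (hX.sub hm)).2 (hall h hh ((hc h hh x (hX.sub hx)).1 h1) ((hc h hh g hg).1 h2))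

/-- The preimage of such a set. -/
theorem SecSet.pull {X' : Set H} (hX : SecSet (f '' Λ) X') (hinj : Set.InjOn f Λ)
    (hΛ : ∀ x ∈ Λ, ∀ y ∈ Λ, x * y * x⁻¹ ∈ Λ)
    (hc : ∀ x ∈ Λ, ∀ y ∈ Λ, (Commute (f x) (f y) ↔ Commute x y))
    (hconj : ∀ x ∈ Λ, ∀ y ∈ Λ, f (x * y * x⁻¹) = f x * f y * (f x)⁻¹) :
    SecSet Λ {x | x ∈ Λ ∧ f x ∈ X'} := by
  refine ⟨fun x hx => hx.1, ?_, ?_⟩
  · rintro x ⟨hx, hfx⟩ y ⟨hy, hfy⟩
    exact ⟨hΛ x hx y hy, hconj x hx y hy ▸ hX.conj _ hfx _ hfy⟩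
  · rintro x ⟨hx, hfx⟩ g hg hcom hne
    obtain ⟨m', hm', hmne, hmx, hall⟩ := hX.second _ hfx _ ⟨g, hg, rfl⟩ ((hc x hx g hg).2 hcom)
      fun e => hne (hinj hg hx e)
    obtain ⟨m, hm, rfl⟩ := hX.sub hm'
    exact ⟨m, ⟨hm, hm'⟩, fun e => hmne (by rw [e]), (hc m hm x hx).1 hmx, fun h hh h1 h2 =>
      (hc h hh m hm).1 (hall _ ⟨h, hh, rfl⟩ ((hc h hh x hx).2 h1) ((hc h hh g hg).2 h2))⟩

end CfsgLib.M22

namespace CfsgLib.M23Recog

open CfsgLib.ThreeTransp (link)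
open CfsgLib.M22 (SecSet)

variable {G : Type*} [Group G] {Q : Type*} [Group Q] {E : Set Q}

/-- Two conjugates commute or have a common neighbour. -/
def Near (d a b : G) : Prop := Commute a b ∨ ∃ e ∈ conjugatesOf d, Commute a e ∧ Commute e b

theorem Near.symm' {d a b : G} : Near d a b → Near d b a
  | Or.inl h => Or.inl h.symm
  | Or.inr ⟨e, he, h1, h2⟩ => Or.inr ⟨e, he, h2.symm, h1.symm⟩

namespace Rec

variable {d : G} [Finite G] (R : Rec d E)
include R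

/-- The image on the whole group, trivial off the link. -/
noncomputable def imgAll (x : G) : Q :=
  @dite Q (x ∈ link (conjugatesOf d) d) (Classical.propDecidable _) (fun hx => R.img hx) fun _ => 1

theorem imgAll_eq {x : G} (hx : x ∈ link (conjugatesOf d) d) : R.imgAll x = R.img hx := by
  unfold imgAll
  exact dif_pos hx

theorem imgAll_facts {Λ : Set G} (hΛ : Λ ⊆ link (conjugatesOf d) d) :
    Set.InjOn R.imgAll Λ ∧ (∀ x ∈ Λ, ∀ y ∈ Λ, (Commute (R.imgAll x) (R.imgAll y) ↔ Commute x y)) ∧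
      ∀ x ∈ Λ, ∀ y ∈ Λ, R.imgAll (x * y * x⁻¹) = R.imgAll x * R.imgAll y * (R.imgAll x)⁻¹ := by
  refine ⟨fun x hx y hy h => ?_, fun x hx y hy => ?_, fun x hx y hy => ?_⟩
  · rw [R.imgAll_eq (hΛ hx), R.imgAll_eq (hΛ hy)] at h
    exact R.link_ext (hΛ hx) (hΛ hy) h
  · rw [R.imgAll_eq (hΛ hx), R.imgAll_eq (hΛ hy)]
    exact (R.commute_iff (hΛ hx) (hΛ hy)).symm
  · rw [R.imgAll_eq (hΛ hx), R.imgAll_eq (hΛ hy), R.imgAll_eq (R.conj_link (hΛ hx) (hΛ hy))]
    exact R.img_conj (hΛ hx) (hΛ hy)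

theorem imgAll_link {e : G} (he : e ∈ link (conjugatesOf d) d) :
    R.imgAll '' (link (conjugatesOf d) d ∩ link (conjugatesOf d) e) = link E (R.img he) := by
  ext q
  constructor
  · rintro ⟨x, ⟨hx, hxe⟩, rfl⟩
    rw [R.imgAll_eq hx]
    exact (R.img_link he hx).2 hxe
  · intro hq
    obtain ⟨x, hx, rfl⟩ := R.exists_link hq.1
    exact ⟨x, ⟨hx, (R.img_link he hx).1 hq⟩, R.imgAll_eq hx⟩

/-- The heart of diameter two. -/
theorem meet {y e a : G} (hy : y ∈ conjugatesOf d) (hdy : ¬ Commute d y)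
    (he : e ∈ link (conjugatesOf d) d) (hey : Commute e y) (ha : a ∈ link (conjugatesOf d) d) :
    ∃ f ∈ link (conjugatesOf d) d, Commute f y ∧ Commute f a := by
  classical
  by_cases hea : Commute e a
  · exact ⟨e, he, hey, hea⟩
  haveI := R.finite_quot
  obtain ⟨F, _, _, hF, hM⟩ := R.S.exists_models
  obtain ⟨A⟩ := R.at' he.1
  have hD : conjugatesOf e = conjugatesOf d := class_eq he.1
  set Λ := link (conjugatesOf d) d ∩ link (conjugatesOf d) e with hΛdef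
  have hde : d ∈ link (conjugatesOf e) e := ⟨hD ▸ IsConj.refl d, he.2.1.symm, he.2.2.symm⟩
  have hye : y ∈ link (conjugatesOf e) e := ⟨hD ▸ hy, fun h => hdy (h ▸ he.2.2), hey⟩
  have hΛe : Λ ⊆ link (conjugatesOf e) e := fun x hx => hD.symm ▸ hx.2
  have hΛc : ∀ x ∈ Λ, ∀ z ∈ Λ, x * z * x⁻¹ ∈ Λ := by
    intro x hx z hz
    refine ⟨R.conj_link hx.1 hz.1, ?_⟩
    have := A.conj_link (hΛe hx) (hΛe hz)
    rwa [hD] at this
  obtain ⟨i1, c1, j1⟩ := R.imgAll_facts (Λ := Λ) Set.inter_subset_left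
  obtain ⟨i2, c2, j2⟩ := A.imgAll_facts hΛe
  have hnd : ¬ Commute (A.img hde) (A.img hye) := fun h => hdy ((A.commute_iff hde hye).2 h)
  have hna : ¬ Commute (R.img he) (R.img ha) := fun h => hea ((R.commute_iff he ha).2 h)
  have himgA : A.imgAll '' Λ = link E (A.img hde) := by
    rw [hΛdef, Set.inter_comm, ← A.imgAll_link hde, hD]
  set X₁ := link E (A.img hde) ∩ link E (A.img hye) with hX₁
  have hX : SecSet (link E (A.img hde)) X₁ :=
    M22.secSet_common R.S hF hM (A.img_mem hde) (A.img_mem hye) hnd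
  set X₂ := A.imgAll '' {x | x ∈ Λ ∧ R.imgAll x ∈ link E (R.img he) ∩ link E (R.img ha)} with hX₂
  have hX' : SecSet (link E (A.img hde)) X₂ := by
    rw [← himgA]
    refine (SecSet.pull (f := R.imgAll) ?_ i1 hΛc c1 j1).push i2 c2 j2
    rw [hΛdef, R.imgAll_link he]
    exact M22.secSet_common R.S hF hM (R.img_mem he) (R.img_mem ha) hna
  -- a member of both sets gives the wanted member
  suffices ∃ q ∈ X₁, q ∈ X₂ by
    obtain ⟨_, hq, x, ⟨hx, hxa⟩, rfl⟩ := this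
    refine ⟨x, hx.1, ?_, ?_⟩
    · rw [A.imgAll_eq (hΛe hx)] at hq
      exact ((A.img_link hye (hΛe hx)).1 hq.2).2.2.symm
    · rw [R.imgAll_eq hx.1] at hxa
      exact ((R.img_link ha hx.1).1 hxa.2).2.2.symm
  by_contra hcon
  push Not at hcon
  have hall : ∀ x ∈ X₁, ∀ z ∈ X₂, Commute x z := by
    intro x hx z hz
    by_contra hxz
    obtain ⟨f, hf, hf'⟩ := SecSet.meet R.S hF hM (A.img_mem hde) hX hX' hx hz hxz
    exact hcon f hf hf'
  obtain ⟨q, hq, hqa⟩ := M22.exists_common R.S hF hM (R.img_mem he) (R.img_mem ha) hna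
  obtain ⟨x, hx, hxq⟩ : q ∈ R.imgAll '' Λ := by rw [hΛdef, R.imgAll_link he]; exact hq
  have hz : A.imgAll x ∈ X₂ := ⟨x, ⟨hx, hxq ▸ hq, hxq ▸ hqa⟩, rfl⟩
  have hzl : A.imgAll x ∈ link E (A.img hde) := hX'.sub hz
  have hny : ¬ Commute (A.img hye) (A.imgAll x) := fun h => hcon _ ⟨hzl, hzl.1, fun e' => by
    exact hnd (e' ▸ hzl.2.2), h⟩ hz
  have hP := M22.pairData R.S hF hM
  rcases hP.only (A.img_mem hye) (A.img_mem hde) (fun h => hnd h.symm) hzl.1 hny
    (fun u hu => (hall u ⟨hu.2, hu.1⟩ _ hz).symm) with h | h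
  · exact hzl.2.1 h
  · have h2 := hzl.2.2
    rw [h] at h2
    rcases R.S.tt.cond _ (A.img_mem hde) _ (A.img_mem hye) with hc | hc
    · exact hnd hc
    · rw [← hc] at h2
      refine hnd ?_
      have h3 : Commute (A.img hde) (A.img hde * (A.img hde * A.img hye * A.img hde) * A.img hde) :=
        ((Commute.refl _).mul_right h2).mul_right (Commute.refl _)
      simpa [← mul_assoc, R.S.tt.sq _ (A.img_mem hde), mul_assoc (A.img hye)] using h3

/-- Near pairs are closed under commuting. -/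
theorem near_step {a b c : G} (ha : a ∈ conjugatesOf d) (hb : b ∈ conjugatesOf d) (hc : c ∈ conjugatesOf d)
    (h : Near d a b) (hbc : Commute b c) : Near d a c := by
  by_cases hab : Commute a b
  · exact Or.inr ⟨b, hb, hab, hbc⟩
  by_cases hcb : c = b
  · exact hcb ▸ h
  obtain ⟨e, he, hae, heb⟩ := h.resolve_left hab
  obtain ⟨B⟩ := R.at' hb
  have hD := class_eq hb
  obtain ⟨f, hf, hfa, hfc⟩ := B.meet (y := a) (hD ▸ ha) (fun h => hab h.symm)
    (e := e) ⟨hD ▸ he, fun h => hab (h ▸ hae), heb.symm⟩ hae.symm (a := c) ⟨hD ▸ hc, hcb, hbc⟩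
  exact Or.inr ⟨f, hD ▸ hf.1, hfa.symm, hfc⟩

theorem near_trans {a b c : G} (ha : a ∈ conjugatesOf d) (hb : b ∈ conjugatesOf d) (hc : c ∈ conjugatesOf d)
    (h1 : Near d a b) (h2 : Near d b c) : Near d a c := by
  rcases h2 with h | ⟨e, he, hbe, hec⟩
  · exact R.near_step ha hb hc h1 h
  · exact R.near_step ha he hc (R.near_step ha hb he h1 hbe) hec

/-- Near members that do not commute satisfy the braid relation. -/
theorem near_braid {a b : G} (ha : a ∈ conjugatesOf d) (hb : b ∈ conjugatesOf d) (h : Near d a b)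
    (hab : ¬ Commute a b) : a * b * a⁻¹ = b * a * b⁻¹ := by
  obtain ⟨e, he, hae, heb⟩ := h.resolve_left hab
  obtain ⟨A⟩ := R.at' he
  have hD := class_eq he
  exact A.braid ⟨hD ▸ ha, fun h => hab (h ▸ heb), hae.symm⟩ ⟨hD ▸ hb, fun h => hab (h ▸ hae), heb⟩ hab

end Rec

end CfsgLib.M23Recog
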