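import Cfsg.Agent.Lib.ThreeTransp.CoverSign.M22CoverThompson
import Cfsg.Agent.Lib.ThreeTransp.M22Invol
import Cfsg.Agent.Lib.ThreeTransp.M22Simple

/-!
# Recognition from the centraliser `2.Fi₂₂` of an involution: the conjugates commuting with a given one

Those other than `d` are one lift of each transposition; so commuting ones have commuting images, the others
braid, they generate the centraliser and no product of two or three commuting conjugates is a conjugate.
-/

set_option autoImplicit false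

namespace CfsgLib.M23Recog

open CfsgLib.ThreeTransp (link)
open CfsgLib.M22 (fibre)
open scoped commutatorElement

variable {G : Type*} [Group G] {Q : Type*} [Group Q] {E : Set Q}

/-- The centraliser of `d` is a perfect double cover of a group of type `M(22)` and `d` commutes with another
conjugate. -/
structure Rec (d : G) (E : Set Q) where
  S : M22.Setup E
  ord : orderOf d = 2
  π : ↥(Subgroup.centralizer ({d} : Set G)) →* Q
  surj : Function.Surjective π
  ker : ∀ h, π h = 1 ↔ (h : G) ∈ Subgroup.zpowers d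
  perf : commutator ↥(Subgroup.centralizer ({d} : Set G)) = ⊤
  nwc : ∃ g : G, g * d * g⁻¹ ∈ Subgroup.centralizer ({d} : Set G) ∧ g * d * g⁻¹ ≠ d

namespace Rec

variable {d : G}

theorem cent_conj {k w : G} : w ∈ Subgroup.centralizer ({k * d * k⁻¹} : Set G) ↔
    k⁻¹ * w * k ∈ Subgroup.centralizer ({d} : Set G) := by
  rw [Subgroup.mem_centralizer_singleton_iff, Subgroup.mem_centralizer_singleton_iff]
  constructor
  · intro h
    calc k⁻¹ * w * k * d = k⁻¹ * (w * (k * d * k⁻¹)) * k := by group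
      _ = d * (k⁻¹ * w * k) := by rw [h]; group
  · intro h
    calc w * (k * d * k⁻¹) = k * (k⁻¹ * w * k * d) * k⁻¹ := by group
      _ = k * d * k⁻¹ * w := by rw [h]; group

/-- Transport to a conjugate. -/
theorem move (R : Rec d E) (k : G) : Nonempty (Rec (k * d * k⁻¹) E) := by
  let σ : ↥(Subgroup.centralizer ({k * d * k⁻¹} : Set G)) ≃* ↥(Subgroup.centralizer ({d} : Set G)) :=
    { toFun := fun w => ⟨k⁻¹ * w * k, cent_conj.1 w.2⟩
      invFun := fun w => ⟨k * w * k⁻¹, cent_conj.2 (by simp [mul_assoc])⟩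
      left_inv := fun w => Subtype.ext (by simp [mul_assoc])
      right_inv := fun w => Subtype.ext (by simp [mul_assoc])
      map_mul' := fun u v => Subtype.ext (by simp [mul_assoc]) }
  refine ⟨⟨R.S, ?_, R.π.comp σ.toMonoidHom, R.surj.comp σ.surjective, fun h => ?_, ?_, ?_⟩⟩
  · rw [← R.ord]
    exact (MulAut.conj k).orderOf_eq d
  · show R.π (σ h) = 1 ↔ _
    rw [R.ker, Subgroup.mem_zpowers_iff, Subgroup.mem_zpowers_iff]
    constructor <;> rintro ⟨n, hn⟩ <;> refine ⟨n, ?_⟩
    · rw [conj_zpow, hn]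
      show k * (k⁻¹ * (h : G) * k) * k⁻¹ = h
      group
    · show d ^ n = k⁻¹ * (h : G) * k
      rw [← hn, conj_zpow]
      group
  · refine eq_top_iff.2 fun x _ => ?_
    obtain ⟨y, rfl⟩ := σ.symm.surjective x
    have hy : σ.symm.toMonoidHom y ∈
        (commutator ↥(Subgroup.centralizer ({d} : Set G))).map σ.symm.toMonoidHom :=
      Subgroup.mem_map_of_mem _ (R.perf ▸ Subgroup.mem_top y)
    rw [_root_.commutator_def, Subgroup.map_commutator] at hy
    exact Subgroup.commutator_mono le_top le_top hy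
  · obtain ⟨g, hg, hne⟩ := R.nwc
    refine ⟨k * g * k⁻¹, cent_conj.2 ?_, fun e => hne ?_⟩
    · convert hg using 1; group
    · calc g * d * g⁻¹ = k⁻¹ * (k * g * k⁻¹ * (k * d * k⁻¹) * (k * g * k⁻¹)⁻¹) * k := by group
        _ = d := by rw [e]; group

/-- The element of the centraliser. -/
abbrev toC (_R : Rec d E) {x : G} (hx : x ∈ link (conjugatesOf d) d) : ↥(Subgroup.centralizer ({d} : Set G)) :=
  ⟨x, Subgroup.mem_centralizer_singleton_iff.2 hx.2.2.symm.eq⟩

/-- The image of a member of the link. -/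
abbrev img (R : Rec d E) {x : G} (hx : x ∈ link (conjugatesOf d) d) : Q := R.π (R.toC hx)

/-- The element `d` in its centraliser. -/
abbrev zC (_R : Rec d E) : ↥(Subgroup.centralizer ({d} : Set G)) :=
  ⟨d, Subgroup.mem_centralizer_singleton_iff.2 rfl⟩

variable (R : Rec d E)
include R

theorem sq : d * d = 1 := by rw [← pow_two, ← R.ord, pow_orderOf_eq_one]

theorem ne_one : d ≠ 1 := fun h => by
  have := R.ord
  rw [h, orderOf_one] at this
  norm_num at this

theorem map_z : R.π R.zC = 1 := (R.ker _).2 (Subgroup.mem_zpowers d)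

theorem ker_cases {h : ↥(Subgroup.centralizer ({d} : Set G))} (hh : R.π h = 1) : h = 1 ∨ h = R.zC := by
  obtain ⟨n, hn⟩ := (R.ker h).1 hh
  change d ^ n = (h : G) at hn
  rw [← zpow_mod_orderOf, R.ord] at hn
  rcases Int.emod_two_eq_zero_or_one n with h0 | h0 <;> simp [h0] at hn
  · exact Or.inl (Subtype.ext hn.symm)
  · exact Or.inr (Subtype.ext hn.symm)

theorem zC_comm (h : ↥(Subgroup.centralizer ({d} : Set G))) : Commute R.zC h :=
  Subtype.ext (Subgroup.mem_centralizer_singleton_iff.1 h.2).symm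

theorem zC_sq : R.zC * R.zC = 1 := Subtype.ext R.sq

theorem sq_of_mem {x : G} (hx : x ∈ conjugatesOf d) : x * x = 1 := by
  obtain ⟨g, rfl⟩ := isConj_iff.1 hx
  rw [show g * d * g⁻¹ * (g * d * g⁻¹) = g * (d * d) * g⁻¹ by group, R.sq, mul_one, mul_inv_cancel]

theorem ne_one_of_mem {x : G} (hx : x ∈ conjugatesOf d) : x ≠ 1 := by
  obtain ⟨g, rfl⟩ := isConj_iff.1 hx
  exact fun h => R.ne_one (conj_eq_one_iff.1 h)

theorem at' {a : G} (ha : a ∈ conjugatesOf d) : Nonempty (Rec a E) := by
  obtain ⟨g, rfl⟩ := isConj_iff.1 ha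
  exact R.move g

omit R in
theorem class_eq {a : G} (ha : a ∈ conjugatesOf d) : conjugatesOf a = conjugatesOf d :=
  (IsConj.conjugatesOf_eq ha).symm

variable [Finite G]

omit [Finite G] in
theorem finite_quot [Finite G] : Finite Q := Finite.of_surjective R.π R.surj

theorem not_square : ¬ ∃ g : G, g ^ 2 = d := by
  haveI := R.finite_quot
  obtain ⟨F, _, _, hF, hM⟩ := R.S.exists_models
  rintro ⟨g, hg⟩
  have hgC : g ∈ Subgroup.centralizer ({d} : Set G) :=
    Subgroup.mem_centralizer_singleton_iff.2 (by rw [← hg]; group)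
  obtain ⟨T₀, hT₀⟩ := R.surj R.S.exists_noncommuting.choose
  have hgg := M22.sq_eq_one_of_image R.S hF hM R.surj (z := R.zC) (π := R.π) (fun h => R.ker_cases)
    R.map_z R.zC_comm R.zC_sq
    (T₀ := T₀) (hT₀ ▸ R.S.exists_noncommuting.choose_spec.1) (h := ⟨g, hgC⟩) (by
      rw [← map_mul, R.ker]
      show g * g ∈ _
      rw [← pow_two, hg]; exact Subgroup.mem_zpowers d)
  have h1 : g * g = 1 := congrArg Subtype.val hgg
  rw [pow_two, h1] at hg
  exact R.ne_one hg.symm

/-- An element over `1` or an involution is a conjugate of `d` only over `1` or a member, and then there is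
exactly one over each. -/
theorem kinds : (∀ h : ↥(Subgroup.centralizer ({d} : Set G)), IsConj d (h : G) → (h : G) ≠ d → R.π h ∈ E) ∧
    ∀ q ∈ E, fibre d R.π q = 1 := by
  haveI := R.finite_quot
  haveI : Fact (Nat.Prime 2) := ⟨Nat.prime_two⟩
  obtain ⟨F, _, _, hF, hM⟩ := R.S.exists_models
  let P : Sylow 2 ↥(Subgroup.centralizer ({d} : Set G)) := Classical.arbitrary _
  obtain ⟨-, -, -, -, f1, f2, f3⟩ :=
    M22.cover_thompson_full R.S hF hM R.ord R.surj R.ker R.perf R.not_square R.nwc P _ rfl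
  refine ⟨fun h hd hne => ?_, f1⟩
  have h1 : R.π h ≠ 1 := fun e => by
    rcases R.ker_cases e with r | r
    · exact R.ne_one_of_mem hd (congrArg Subtype.val r)
    · exact hne (congrArg Subtype.val r)
  have h2 : orderOf (R.π h) = 2 := orderOf_eq_prime (by
    rw [pow_two, ← map_mul, show h * h = 1 from Subtype.ext (R.sq_of_mem hd), map_one]) h1
  have zero : ∀ {q : Q}, R.π h = q → fibre d R.π q ≠ 0 := fun hq h0 =>
    (Set.eq_empty_iff_forall_notMem.1 ((Set.ncard_eq_zero (Set.toFinite _)).1 h0) h) ⟨hq, hd⟩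
  rcases M22.invol_cases R.S hF hM h2 with r | ⟨a, b, ha, hb, hab⟩ | ⟨a, b, c, T, habc⟩
  · exact r
  · exact absurd (f2 ha hb) (zero hab.symm)
  · exact absurd (f3 T) (zero habc.symm)

/-- The image of a member of the link is a member. -/
theorem img_mem {x : G} (hx : x ∈ link (conjugatesOf d) d) : R.img hx ∈ E := R.kinds.1 _ hx.1 hx.2.1

theorem link_ext {x y : G} (hx : x ∈ link (conjugatesOf d) d) (hy : y ∈ link (conjugatesOf d) d)
    (h : R.img hx = R.img hy) : x = y := by
  obtain ⟨u, hu⟩ := Set.ncard_eq_one.1 (R.kinds.2 _ (R.img_mem hx))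
  have e1 : R.toC hx = u := (Set.ext_iff.1 hu _).1 ⟨rfl, hx.1⟩
  have e2 : R.toC hy = u := (Set.ext_iff.1 hu _).1 ⟨h.symm, hy.1⟩
  exact congrArg Subtype.val (e1.trans e2.symm)

theorem exists_link {q : Q} (hq : q ∈ E) :
    ∃ (x : G) (hx : x ∈ link (conjugatesOf d) d), R.img hx = q := by
  obtain ⟨h, hh⟩ := Set.ncard_eq_one.1 (R.kinds.2 _ hq)
  obtain ⟨h1, h2⟩ : R.π h = q ∧ IsConj d (h : G) := (Set.ext_iff.1 hh h).2 rfl
  refine ⟨h, ⟨h2, fun e => ?_, (Subgroup.mem_centralizer_singleton_iff.1 h.2).symm⟩, h1⟩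
  have : R.π h = 1 := (congrArg R.π (Subtype.ext e : h = R.zC)).trans R.map_z
  exact R.S.tt.ne_one q hq (h1.symm.trans this)

omit [Finite G] in
/-- A conjugate of a member of the link. -/
theorem conj_link {x y : G} (hx : x ∈ link (conjugatesOf d) d) (hy : y ∈ link (conjugatesOf d) d) :
    x * y * x⁻¹ ∈ link (conjugatesOf d) d :=
  ⟨hy.1.trans (isConj_iff.2 ⟨x, rfl⟩), fun e => hy.2.1 (by
    calc y = x⁻¹ * (x * y * x⁻¹) * x := by group
      _ = x⁻¹ * (x * d) := by rw [e, mul_assoc, ← hx.2.2.symm.eq]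
      _ = d := by group), (hx.2.2.mul_right hy.2.2).mul_right hx.2.2.inv_right⟩

omit [Finite G] in
theorem img_conj {x y : G} (hx : x ∈ link (conjugatesOf d) d) (hy : y ∈ link (conjugatesOf d) d) :
    R.img (R.conj_link hx hy) = R.img hx * R.img hy * (R.img hx)⁻¹ := by
  rw [img, img, img, ← map_inv, ← map_mul, ← map_mul]
  rfl

theorem commute_iff {x y : G} (hx : x ∈ link (conjugatesOf d) d) (hy : y ∈ link (conjugatesOf d) d) :
    Commute x y ↔ Commute (R.img hx) (R.img hy) := by
  refine ⟨fun h => (show Commute (R.toC hx) (R.toC hy) from Subtype.ext h).map R.π, fun h => ?_⟩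
  have := R.link_ext (R.conj_link hx hy) hy (by rw [R.img_conj hx hy, h.eq, mul_inv_cancel_right])
  exact mul_inv_eq_iff_eq_mul.1 this

theorem img_ne {x y : G} (hx : x ∈ link (conjugatesOf d) d) (hy : y ∈ link (conjugatesOf d) d) (h : x ≠ y) :
    R.img hx ≠ R.img hy := fun e => h (R.link_ext hx hy e)

/-- Links correspond. -/
theorem img_link {x y : G} (hx : x ∈ link (conjugatesOf d) d) (hy : y ∈ link (conjugatesOf d) d) :
    R.img hy ∈ link E (R.img hx) ↔ y ∈ link (conjugatesOf d) x := by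
  constructor
  · rintro ⟨-, h2, h3⟩
    exact ⟨hy.1, fun h => h2 (by subst h; rfl), (R.commute_iff hx hy).2 h3⟩
  · rintro ⟨-, h2, h3⟩
    exact ⟨R.img_mem hy, R.img_ne hy hx h2, (R.commute_iff hx hy).1 h3⟩

/-- Members of a link that do not commute satisfy the braid relation. -/
theorem braid {x y : G} (hx : x ∈ link (conjugatesOf d) d) (hy : y ∈ link (conjugatesOf d) d)
    (h : ¬ Commute x y) : x * y * x⁻¹ = y * x * y⁻¹ := by
  refine R.link_ext (R.conj_link hx hy) (R.conj_link hy hx) ?_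
  rw [R.img_conj hx hy, R.img_conj hy hx, R.S.tt.inv_eq (R.img_mem hx), R.S.tt.inv_eq (R.img_mem hy)]
  exact (R.S.tt.cond _ (R.img_mem hx) _ (R.img_mem hy)).resolve_left fun e => h ((R.commute_iff hx hy).2 e)

/-- The link generates the centraliser. -/
theorem closure_link : Subgroup.closure (link (conjugatesOf d) d) = Subgroup.centralizer ({d} : Set G) := by
  classical
  refine le_antisymm ((Subgroup.closure_le _).2 fun x hx =>
    Subgroup.mem_centralizer_singleton_iff.2 hx.2.2.symm.eq) ?_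
  set L := (Subgroup.closure (link (conjugatesOf d) d)).subgroupOf (Subgroup.centralizer ({d} : Set G)) with hL
  have htop : L.map R.π = ⊤ := by
    rw [eq_top_iff, ← R.S.gen, Subgroup.closure_le]
    intro q hq
    obtain ⟨x, hx, rfl⟩ := R.exists_link hq
    exact ⟨R.toC hx, Subgroup.mem_subgroupOf.2 (Subgroup.subset_closure hx), rfl⟩
  have hcomm : commutator ↥(Subgroup.centralizer ({d} : Set G)) ≤ L := by
    rw [_root_.commutator_def, Subgroup.commutator_le]
    intro a _ b _
    have hm : ∀ c : ↥(Subgroup.centralizer ({d} : Set G)), ∃ l ∈ L, c = l ∨ c = l * R.zC := fun c => by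
      obtain ⟨l, hl, e⟩ : R.π c ∈ L.map R.π := htop ▸ Subgroup.mem_top _
      refine ⟨l, hl, ?_⟩
      rcases R.ker_cases (show R.π (l⁻¹ * c) = 1 by rw [map_mul, map_inv, e, inv_mul_cancel]) with r | r
      · exact Or.inl (inv_mul_eq_one.1 r).symm
      · exact Or.inr (inv_mul_eq_iff_eq_mul.1 r)
    have kl : ∀ a b : ↥(Subgroup.centralizer ({d} : Set G)), ⁅a * R.zC, b⁆ = ⁅a, b⁆ := fun a b => by
      rw [commutatorElement_def, commutatorElement_def, mul_assoc a R.zC b, (R.zC_comm b).eq]; group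
    have kr : ∀ a b : ↥(Subgroup.centralizer ({d} : Set G)), ⁅a, b * R.zC⁆ = ⁅a, b⁆ := fun a b => by
      rw [commutatorElement_def, commutatorElement_def,
        show a * (b * R.zC) * a⁻¹ = a * b * (R.zC * a⁻¹) by group, (R.zC_comm a⁻¹).eq]
      group
    obtain ⟨l, hl, ha⟩ := hm a
    obtain ⟨k, hk, hb⟩ := hm b
    have hlk : ⁅l, k⁆ ∈ L := mul_mem (mul_mem (mul_mem hl hk) (inv_mem hl)) (inv_mem hk)
    rcases ha with rfl | rfl <;> rcases hb with rfl | rfl
    · exact hlk
    · rwa [kr]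
    · rwa [kl]
    · rwa [kl, kr]
  intro x hx
  have := hcomm (R.perf ▸ Subgroup.mem_top (⟨x, hx⟩ : ↥(Subgroup.centralizer ({d} : Set G))))
  rwa [hL, Subgroup.mem_subgroupOf] at this

/-- A product of two commuting conjugates is not a conjugate. -/
theorem two_notMem {a b : G} (ha : a ∈ conjugatesOf d) (hb : b ∈ conjugatesOf d) (hab : Commute a b) (hne : a ≠ b) :
    a * b ∉ conjugatesOf d := by
  intro h
  obtain ⟨A⟩ := R.at' ha
  rw [← class_eq ha] at hb h
  have hbl : b ∈ link (conjugatesOf a) a := ⟨hb, hne.symm, hab⟩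
  have hb1 : b ≠ 1 := A.ne_one_of_mem hb
  have hl : a * b ∈ link (conjugatesOf a) a :=
    ⟨h, fun e => hb1 (mul_left_cancel (e.trans (mul_one a).symm)), (Commute.refl a).mul_right hab⟩
  have := A.link_ext hl hbl (by
    rw [img, img, show A.toC hl = A.zC * A.toC hbl from Subtype.ext rfl, map_mul, A.map_z, one_mul])
  exact A.ne_one (mul_eq_right.1 this)

/-- A product of three commuting conjugates is not a conjugate. -/
theorem three_notMem {a b c : G} (ha : a ∈ conjugatesOf d) (hb : b ∈ conjugatesOf d) (hc : c ∈ conjugatesOf d)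
    (hab : Commute a b) (hac : Commute a c) (hbc : Commute b c) (h1 : a ≠ b) (h2 : a ≠ c) (h3 : b ≠ c) :
    a * b * c ∉ conjugatesOf d := by
  intro h
  have hbc' := R.two_notMem hb hc hbc h3
  obtain ⟨A⟩ := R.at' ha
  haveI := A.finite_quot
  obtain ⟨F, _, _, hF, hM⟩ := A.S.exists_models
  have hD := class_eq ha
  have lb : b ∈ link (conjugatesOf a) a := ⟨hD ▸ hb, h1.symm, hab⟩
  have lc : c ∈ link (conjugatesOf a) a := ⟨hD ▸ hc, h2.symm, hac⟩
  have hl : a * b * c ∈ link (conjugatesOf a) a := by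
    refine ⟨hD ▸ h, fun e => h3 ?_, ((Commute.refl a).mul_right hab).mul_right hac⟩
    have e' : b * c = 1 := mul_left_cancel (a := a) (by rw [mul_one, ← mul_assoc]; exact e)
    rw [mul_eq_one_iff_eq_inv, inv_eq_of_mul_eq_one_right (R.sq_of_mem hc)] at e'
    exact e'
  have hmem := A.img_mem hl
  rw [img, show A.toC hl = A.zC * A.toC lb * A.toC lc from Subtype.ext rfl, map_mul, map_mul, A.map_z,
    one_mul] at hmem
  exact (M22.pair_notMem A.S hF hM (A.img_mem lb) ((A.img_link lb lc).2 ⟨lc.1, h3.symm, hbc⟩)).2 hmem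

end Rec

end CfsgLib.M23Recog
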