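import Cfsg.Agent.Lib.ThreeTransp.M23Recog.Pair
import Cfsg.Agent.Lib.ThreeTransp.U6Recog.Whole

/-!
# Recognition of `Fi₂₃`: the component is the whole class

Members of different components have product of odd order; so the product of a commuting pair and a member `y`
of another component has even order, which gives the product of a triple commuting with `y` and so a second
representation of that product by a triple through a further member, which is impossible.
-/

set_option autoImplicit false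

namespace CfsgLib.M23

open CfsgLib.ThreeTransp CfsgLib.SporMisc CfsgLib.ThreeTransp.Factor

/-- The hypotheses are invariant under isomorphism. -/
theorem Setup.map {A B : Type*} [Group A] [Finite A] [Group B] {E₀ : Set A} {E' : Set B} (S : Setup E₀)
    (φ : A ≃* B) (hE : φ '' E₀ = E') : Setup E' := by
  subst hE
  haveI : Finite B := Finite.of_equiv A φ.toEquiv
  have hcm : ∀ {x y : A}, Commute (φ x) (φ y) → Commute x y := fun h => by simpa using h.map φ.symm
  have htt : IsTT (φ '' E₀) := by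
    refine ⟨?_, ?_, ?_, ?_⟩
    · rintro _ ⟨x, hx, rfl⟩; rw [← map_mul, S.tt.sq x hx, map_one]
    · rintro _ ⟨x, hx, rfl⟩ h; exact S.tt.ne_one x hx (φ.injective (h.trans (map_one φ).symm))
    · rintro _ ⟨x, hx, rfl⟩ _ ⟨y, hy, rfl⟩
      refine (S.tt.cond x hx y hy).imp (fun h => h.map φ) fun h => ?_
      simp only [← map_mul, h]
    · rintro g _ ⟨x, hx, rfl⟩; exact ⟨φ.symm g * x * (φ.symm g)⁻¹, S.tt.conj _ x hx, by simp⟩
  have hgen : Subgroup.closure (φ '' E₀) = ⊤ := by
    rw [show φ '' E₀ = φ.toMonoidHom '' E₀ from rfl, ← MonoidHom.map_closure, S.gen]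
    exact Subgroup.map_top_of_surjective _ φ.surjective
  have hcls : ∀ x ∈ φ '' E₀, ∀ y ∈ φ '' E₀, ∃ g : B, g * x * g⁻¹ = y := by
    rintro _ ⟨x, hx, rfl⟩ _ ⟨y, hy, rfl⟩
    obtain ⟨g, rfl⟩ := S.prim.1 x hx y hy
    exact ⟨φ g, by simp⟩
  have hnt : ∃ a ∈ φ '' E₀, ∃ b ∈ φ '' E₀, a ≠ b := by
    obtain ⟨a, ha, b, hb, hab⟩ := S.prim.2.1
    exact ⟨_, ⟨a, ha, rfl⟩, _, ⟨b, hb, rfl⟩, fun h => hab (φ.injective h)⟩
  refine Setup.of_core ⟨htt, hgen, hcls, hnt⟩ ⟨hcls, hnt, ?_⟩ ⟨?_, ?_⟩
  · intro B hB hblock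
    have hsub : φ ⁻¹' B ⊆ E₀ := fun x hx => by
      obtain ⟨y, hy, e⟩ := hB hx
      exact φ.injective e ▸ hy
    have hBimg : φ '' (φ ⁻¹' B) = B := Set.image_preimage_eq B φ.surjective
    have hblock' : ∀ g : A, (fun x => g * x * g⁻¹) '' (φ ⁻¹' B) = φ ⁻¹' B ∨
        Disjoint ((fun x => g * x * g⁻¹) '' (φ ⁻¹' B)) (φ ⁻¹' B) := by
      intro g
      have hc : φ '' ((fun x => g * x * g⁻¹) '' (φ ⁻¹' B)) = (fun x => φ g * x * (φ g)⁻¹) '' B := by
        conv_rhs => rw [← hBimg]
        rw [Set.image_image, Set.image_image]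
        simp only [map_mul, map_inv]
      rcases hblock (φ g) with h | h
      · refine Or.inl (φ.injective.image_injective ?_)
        rw [hc, h, hBimg]
      · refine Or.inr ((Set.disjoint_image_iff φ.injective).1 ?_)
        rwa [hc, hBimg]
    rcases S.prim.2.2 (φ ⁻¹' B) hsub hblock' with h | h
    · exact Or.inl (hBimg ▸ h.image φ)
    · exact Or.inr (by rw [← hBimg, h])
  · rw [eq_bot_iff]
    intro z hz
    have h1 : φ.symm z ∈ Subgroup.center A := Subgroup.mem_center_iff.2 fun g =>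
      φ.injective (by simpa using Subgroup.mem_center_iff.1 hz (φ g))
    rw [S.type.1, Subgroup.mem_bot] at h1
    exact Subgroup.mem_bot.2 (by simpa using congrArg φ h1)
  · obtain ⟨-, d, hd, c, hc, hdc, hM, hns⟩ := S.type
    refine ⟨φ d, ⟨d, hd, rfl⟩, φ c, ⟨c, hc, rfl⟩, fun h => hdc (hcm h), ?_, fun hs => hns ?_⟩
    · have hmap : (linkSub E₀ d).map φ.toMonoidHom = linkSub (φ '' E₀) (φ d) := by
        rw [MonoidHom.map_closure]
        exact congrArg Subgroup.closure (image_link φ E₀ d)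
      let ψ : ↥(linkSub E₀ d) ≃* ↥(linkSub (φ '' E₀) (φ d)) :=
        (φ.subgroupMap _).trans (MulEquiv.subgroupCongr hmap)
      refine isOfTypeM22_equiv (centralQuotEquiv ψ) ?_ hM
      ext z
      constructor
      · rintro ⟨_, ⟨x, hx, rfl⟩, rfl⟩
        refine ⟨ψ x, ?_, rfl⟩
        show (ψ x : B) ∈ link (φ '' E₀) (φ d)
        rw [← image_link]
        exact ⟨x, hx, rfl⟩
      · rintro ⟨y, hy, rfl⟩
        refine ⟨(ψ.symm y : Q E₀ d), ⟨ψ.symm y, ?_, rfl⟩, ?_⟩
        · obtain ⟨x, hx, hxy⟩ : (y : B) ∈ φ '' link E₀ d := (image_link φ E₀ d).symm ▸ hy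
          have h1 : φ ((ψ.symm y : ↥(linkSub E₀ d)) : A) = y := congrArg Subtype.val (ψ.apply_symm_apply y)
          show ((ψ.symm y : ↥(linkSub E₀ d)) : A) ∈ link E₀ d
          exact φ.injective (h1.trans hxy.symm) ▸ hx
        · show centralQuotEquiv ψ ((ψ.symm y : ↥(linkSub E₀ d)) : Q E₀ d) = (y : Q (φ '' E₀) (φ d))
          simp [centralQuotEquiv]
    · have hmap : (Subgroup.closure (link E₀ d ∩ link E₀ c)).map φ.toMonoidHom =
          Subgroup.closure (link (φ '' E₀) (φ d) ∩ link (φ '' E₀) (φ c)) := by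
        rw [MonoidHom.map_closure, show φ.toMonoidHom '' (link E₀ d ∩ link E₀ c) = φ '' (link E₀ d ∩ link E₀ c)
          from rfl, Set.image_inter φ.injective, image_link, image_link]
      haveI := hs
      let ψ := (φ.subgroupMap (Subgroup.closure (link E₀ d ∩ link E₀ c))).trans (MulEquiv.subgroupCongr hmap)
      exact Group.isSolvable_of_surjective (f := ψ.symm.toMonoidHom) ψ.symm.surjective

end CfsgLib.M23

namespace CfsgLib.M23Recog

open Cfsg
open CfsgLib.ThreeTransp (link)
open CfsgLib.U6Recog (conj_of_odd mul_mid_conj mid_props)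

variable {G : Type*} [Group G] {Q : Type*} [Group Q] {E : Set Q}

namespace Rec

variable {d : G} [Finite G] (R : Rec d E)
include R

/-- The centraliser of a product of commuting members meets the class in the component of the pair. -/
theorem near_of_pair {u v y : G} (hu : u ∈ conjugatesOf d) (hv : v ∈ conjugatesOf d) (hy : y ∈ conjugatesOf d)
    (huv : Commute u v) (hne : u ≠ v) (h : Commute y (u * v)) : Near d u y := by
  obtain ⟨U⟩ := R.at' hu
  have hD := class_eq hu
  have := U.jCent_le (e := v) ⟨hD ▸ hv, hne.symm, huv⟩ (Subgroup.mem_centralizer_singleton_iff.2 h.eq)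
  have hn := (U.mem_comp_of_mem (hD ▸ hy) this).2
  unfold Near at hn ⊢
  rwa [hD] at hn

/-- Members of different components have product of odd order. -/
theorem odd_of_far {x y : G} (hx : x ∈ conjugatesOf d) (hy : y ∈ conjugatesOf d) (h : ¬ Near d x y) :
    Odd (orderOf (x * y)) := by
  by_contra ho
  obtain ⟨k, hk⟩ := Nat.not_odd_iff_even.1 ho
  have hxs := R.sq_of_mem hx
  have hys := R.sq_of_mem hy
  have hk0 : 0 < k := by have := orderOf_pos (x * y); omega
  obtain ⟨hw, hcx, hcy⟩ := mid_props hxs hys hk0 hk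
  have hxw : x * (x * y) ^ k ∈ conjugatesOf d := by
    rcases mul_mid_conj hxs hys k with e | e
    · exact hx.trans e
    · exact hy.trans e
  have hne : x ≠ x * (x * y) ^ k := fun e => by
    rw [left_eq_mul] at e
    rw [e, orderOf_one] at hw
    norm_num at hw
  refine h (R.near_of_pair hx hxw hy ((Commute.refl x).mul_right hcx) hne ?_)
  rw [← mul_assoc, hxs, one_mul]
  exact hcy

/-- Every conjugate is in the component. -/
theorem comp_eq {y : G} (hy : y ∈ conjugatesOf d) : y ∈ Comp d := by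
  by_contra hfar
  obtain ⟨e, he⟩ := R.exists_link_member
  set j := d * e with hj
  have hjs : j * j = 1 := R.j_sq he
  have hys := R.sq_of_mem hy
  -- the product of `j` and `y` has even order
  obtain ⟨k, hk⟩ : Even (orderOf (j * y)) := by
    rw [← Nat.not_odd_iff_even]
    rintro ⟨m, hm⟩
    have := conj_of_odd hjs hys (m := m) (by rw [← hm, pow_orderOf_eq_one])
    refine R.two_notMem (IsConj.refl d) he.1 he.2.2 he.2.1.symm ?_
    exact hy.trans ((isConj_iff.2 ⟨(j * y) ^ m, this⟩ : IsConj j y).symm)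
  have hk0 : 0 < k := by have := orderOf_pos (j * y); omega
  obtain ⟨hw, hcj, hcy⟩ := mid_props hjs hys hk0 hk
  set w := (j * y) ^ k with hwdef
  have hwM : w ∈ compGroup d := R.jCent_le he (Subgroup.mem_centralizer_singleton_iff.2 hcj.symm)
  have S := R.compSetup
  have hwo : orderOf (⟨w, hwM⟩ : ↥(compGroup d)) = 2 := by
    rw [← hw]; exact (orderOf_injective (compGroup d).subtype (compGroup d).subtype_injective _).symm
  rcases M23.invol_cases S hwo with h | ⟨a, b, ha, hb, hab⟩ | ⟨a, b, c, T, habc⟩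
  · exact hfar (R.comp_mem_of_commute (x := w) h hy hcy.symm)
  · have e : (a : G) * b = w := congrArg Subtype.val hab
    refine hfar ⟨hy, R.near_trans (IsConj.refl d) (show (a : G) ∈ conjugatesOf d from ha.1) hy
      (show (a : G) ∈ Comp d from ha).2 ?_⟩
    exact R.near_of_pair (show (a : G) ∈ conjugatesOf d from ha.1) (show (b : G) ∈ conjugatesOf d from hb.1.1) hy
      (congrArg Subtype.val hb.2.2.eq) (fun e' => hb.2.1 (Subtype.ext e'.symm)) (e ▸ hcy)
  -- the triple case
  have hA : (a : G) ∈ Comp d := T.ha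
  have hB : (b : G) ∈ Comp d := T.hb
  have hC : (c : G) ∈ Comp d := T.hc
  have hw3 : (a : G) * b * c = w := congrArg Subtype.val habc
  -- a further member commuting with the triple
  obtain ⟨g, ⟨⟨⟨hgD, hgna, hga⟩, -, hgnb, hgb⟩, -, hgnc, hgc⟩⟩ : (link (compSet d) a ∩ link (compSet d) b ∩
      link (compSet d) c).Nonempty := by
    refine (Set.ncard_pos (Set.toFinite _)).1 ?_
    rw [M23.link_three_ncard S T.ha T.mem_link_b
      (show c ∈ link (compSet d) a ∩ link (compSet d) b from ⟨T.mem_link_c, T.hc, T.bc.symm, T.cbc⟩)]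
    norm_num
  replace hga := hga.symm
  replace hgb := hgb.symm
  replace hgc := hgc.symm
  have cm : ∀ {s t : ↥(compGroup d)}, Commute s t → Commute (s : G) t := fun h => congrArg Subtype.val h.eq
  have cwa : Commute (a : G) w := hw3 ▸ ((Commute.refl (a : G)).mul_right (cm T.cab)).mul_right (cm T.cac)
  have cwg : Commute (g : G) w := hw3 ▸ ((cm hga).mul_right (cm hgb)).mul_right (cm hgc)
  have hG : (g : G) ∈ Comp d := hgD
  -- both `a` and `g` are conjugate to `y` in the centraliser of `w`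
  have conjy : ∀ {x : G}, x ∈ Comp d → Commute x w → ∃ c ∈ Subgroup.centralizer ({w} : Set G), c * x * c⁻¹ = y := by
    intro x hx hxw
    have hodd := R.odd_of_far hx.1 hy (fun hn => hfar ⟨hy, R.near_trans (IsConj.refl d) hx.1 hy hx.2 hn⟩)
    obtain ⟨m, hm⟩ := hodd
    exact ⟨_, Subgroup.mem_centralizer_singleton_iff.2 ((hxw.mul_left hcy).pow_left m).eq,
      conj_of_odd (R.sq_of_mem hx.1) hys (m := m) (by rw [← hm, pow_orderOf_eq_one])⟩
  obtain ⟨c₁, hc₁, hc₁a⟩ := conjy hA cwa
  obtain ⟨c₂, hc₂, hc₂g⟩ := conjy hG cwg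
  set h := c₂⁻¹ * c₁ with hh
  have hhw : h * w * h⁻¹ = w := mul_inv_eq_iff_eq_mul.2
    (Subgroup.mem_centralizer_singleton_iff.1 (mul_mem (inv_mem hc₂) hc₁))
  have hhg : h * (a : G) * h⁻¹ = g := by
    calc h * (a : G) * h⁻¹ = c₂⁻¹ * (c₁ * a * c₁⁻¹) * c₂ := by rw [hh]; group
      _ = g := by rw [hc₁a, ← hc₂g]; group
  set u := h * (b : G) * h⁻¹ with hu
  set v := h * (c : G) * h⁻¹ with hv
  have hguv : (g : G) * u * v = w := by
    rw [← hhg, hu, hv]
    calc h * (a : G) * h⁻¹ * (h * b * h⁻¹) * (h * c * h⁻¹) = h * ((a : G) * b * c) * h⁻¹ := by group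
      _ = w := by rw [hw3, hhw]
  have huD : u ∈ conjugatesOf d := hB.1.trans (isConj_iff.2 ⟨h, rfl⟩)
  have hvD : v ∈ conjugatesOf d := hC.1.trans (isConj_iff.2 ⟨h, rfl⟩)
  have huv : Commute u v := (Commute.conj_iff h).2 (cm T.cbc)
  have hune : u ≠ v := fun e => T.bc (Subtype.ext (mul_left_cancel (mul_right_cancel e)))
  have hgs : (g : G) * g = 1 := R.sq_of_mem hG.1
  have huv' : u * v = (g : G) * w := by
    calc u * v = (g : G) * g * u * v := by rw [hgs, one_mul]
      _ = g * (g * u * v) := by group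
      _ = g * w := by rw [hguv]
  have hnu : Near d u (a : G) := R.near_of_pair huD hvD hA.1 huv hune (huv' ▸ (cm hga).symm.mul_right cwa)
  have hU : u ∈ Comp d := ⟨huD, R.near_trans (IsConj.refl d) hA.1 huD hA.2 hnu.symm'⟩
  have hV : v ∈ Comp d := R.comp_mem_of_commute hU hvD huv
  obtain ⟨hgu, hgv⟩ := R.pair_fix hU hV hG huv hune (huv' ▸ (Commute.refl (g : G)).mul_right cwg)
  have hnot : w ∉ conjugatesOf d := hw3 ▸ R.three_notMem hA.1 hB.1 hC.1 (cm T.cab) (cm T.cac) (cm T.cbc)
    (fun e' => T.ab (Subtype.ext e')) (fun e' => T.ac (Subtype.ext e')) (fun e' => T.bc (Subtype.ext e'))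
  have hgnu : (g : G) ≠ u := fun e' => by
    rw [← e', hgs, one_mul] at hguv
    exact hnot (hguv ▸ hvD)
  have hgnv : (g : G) ≠ v := fun e' => by
    rw [← e', mul_assoc, hgu.symm.eq, ← mul_assoc, hgs, one_mul] at hguv
    exact hnot (hguv ▸ huD)
  -- in the quotient of `g` a pair and a triple have the same product
  obtain ⟨A⟩ := R.at' hG.1
  haveI := A.finite_quot
  obtain ⟨F, _, _, hF, hM⟩ := A.S.exists_models
  have hD := class_eq hG.1
  have mk : ∀ {x : G}, x ∈ conjugatesOf d → x ≠ (g : G) → Commute (g : G) x →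
      x ∈ link (conjugatesOf (g : G)) (g : G) := fun h1 h2 h3 => ⟨hD.symm ▸ h1, h2, h3⟩
  have ne : ∀ {s t : ↥(compGroup d)}, s ≠ t → (s : G) ≠ t := fun h e' => h (Subtype.ext e')
  have la := mk hA.1 (ne hgna).symm (cm hga)
  have lb := mk hB.1 (ne hgnb).symm (cm hgb)
  have lc := mk hC.1 (ne hgnc).symm (cm hgc)
  have lu := mk huD hgnu.symm hgu
  have lv := mk hvD hgnv.symm hgv
  have comm' : ∀ {x y : G} (lx : x ∈ link (conjugatesOf (g : G)) (g : G))
      (ly : y ∈ link (conjugatesOf (g : G)) (g : G)), Commute x y → Commute (A.img lx) (A.img ly) :=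
    fun lx ly h => (A.commute_iff lx ly).1 h
  refine M22.pair_ne_tri A.S hF hM (A.img_mem lu)
    (show A.img lv ∈ link E (A.img lu) from ⟨A.img_mem lv, A.img_ne lv lu hune.symm, comm' lu lv huv⟩)
    (⟨A.img_mem la, A.img_mem lb, A.img_mem lc, A.img_ne la lb (ne T.ab), A.img_ne la lc (ne T.ac),
      A.img_ne lb lc (ne T.bc), comm' la lb (cm T.cab), comm' la lc (cm T.cac), comm' lb lc (cm T.cbc)⟩ :
      M22.Tri E (A.img la) (A.img lb) (A.img lc)) ?_
  rw [img, img, img, img, img, ← map_mul, ← map_mul, ← map_mul,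
    show A.toC lu * A.toC lv = A.zC * (A.toC la * A.toC lb * A.toC lc) from
      Subtype.ext (huv'.trans (by rw [← hw3]; rfl)), map_mul, A.map_z, one_mul]

/-- The group of the component is the whole group. -/
theorem compGroup_eq_top : compGroup d = ⊤ :=
  eq_top_iff.2 fun g _ => R.mem_compGroup (R.comp_eq (isConj_iff.2 ⟨g, rfl⟩))

/-- The class is the component. -/
theorem comp_eq_class : Comp d = conjugatesOf d :=
  Set.ext fun _ => ⟨fun h => h.1, fun h => R.comp_eq h⟩

/-- `G` with the class of `d` satisfies the core conditions of type `M(23)`. -/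
theorem setup : M23.Setup (conjugatesOf d) := by
  let φ : ↥(compGroup d) ≃* G := (MulEquiv.subgroupCongr R.compGroup_eq_top).trans Subgroup.topEquiv
  have hD : φ '' compSet d = conjugatesOf d := by
    ext x
    constructor
    · rintro ⟨y, hy, rfl⟩; exact hy.1
    · intro hx; exact ⟨⟨x, R.compGroup_eq_top ▸ Subgroup.mem_top x⟩, R.comp_eq hx, rfl⟩
  exact R.compSetup.map φ hD

end Rec

end CfsgLib.M23Recog
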